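import Groth.Agent.CommAlgDim.Regular
import Groth.Agent.FixLocusLib.Basic
import Groth.Agent.J2Lib.Criterion
import Mathlib

/-!
# Noetherian local rings which are filtered colimits of regular rings are regular
-/

set_option autoImplicit false

universe u

open IsLocalRing MvPolynomial

namespace IndRegLib

/-- Evaluation of integer polynomials. -/
noncomputable abbrev ev {σ : Type} {E : Type*} [CommRing E] (v : σ → E) : MvPolynomial σ ℤ →+* E :=
  eval₂Hom (Int.castRingHom E) v

theorem ev_X {σ : Type} {E : Type u} [CommRing E] (v : σ → E) (i : σ) : ev v (X i) = v i :=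
  eval₂Hom_X' _ _ _

theorem ev_rename {σ τ : Type} {E : Type u} [CommRing E] (f : σ → τ) (v : τ → E) (r : MvPolynomial σ ℤ) :
    ev v (rename f r) = ev (v ∘ f) r :=
  eval₂Hom_rename _ _ _ _

theorem map_ev {σ : Type} {E F : Type*} [CommRing E] [CommRing F] (φ : E →+* F) (v : σ → E) (r : MvPolynomial σ ℤ) :
    φ (ev v r) = ev (φ ∘ v) r :=
  RingHom.congr_fun (MvPolynomial.ringHom_ext (f := φ.comp (ev v)) (g := ev (φ ∘ v)) (fun a => by simp)
    (fun i => by simp)) r

/-- Finite systems of equations in `L` with integer coefficients are solved in regular local rings over `L`. -/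
def IndRegLocal (L : Type u) [CommRing L] [IsLocalRing L] : Prop :=
  ∀ (n : ℕ) (v : Fin n → L) (s : Finset (MvPolynomial (Fin n) ℤ)), (∀ r ∈ s, ev v r = 0) →
    ∃ (C : Type u) (_ : CommRing C) (_ : IsRegularLocalRing C) (g : C →+* L) (_ : IsLocalHom g) (w : Fin n → C),
      (∀ i, g (w i) = v i) ∧ ∀ r ∈ s, ev w r = 0

/-- Finite systems of equations in `D` with integer coefficients are solved in regular rings over `D`. -/
def IndRegRing (D : Type u) [CommRing D] : Prop :=
  ∀ (n : ℕ) (v : Fin n → D) (s : Finset (MvPolynomial (Fin n) ℤ)), (∀ r ∈ s, ev v r = 0) →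
    ∃ (C : Type u) (_ : CommRing C) (_ : IsRegularRing C) (g : C →+* D) (w : Fin n → C),
      (∀ i, g (w i) = v i) ∧ ∀ r ∈ s, ev w r = 0

theorem IndRegLocal.exists_factor {L : Type u} [CommRing L] [IsLocalRing L] (h : IndRegLocal L) {σ : Type}
    [Fintype σ] (v : σ → L) (s : Finset (MvPolynomial σ ℤ)) (hs : ∀ r ∈ s, ev v r = 0) :
    ∃ (C : Type u) (_ : CommRing C) (_ : IsRegularLocalRing C) (g : C →+* L) (_ : IsLocalHom g) (w : σ → C),
      (∀ i, g (w i) = v i) ∧ ∀ r ∈ s, ev w r = 0 := by
  classical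
  let e := Fintype.equivFin σ
  obtain ⟨C, _, hC, g, hg, w, hw, hr⟩ := h _ (v ∘ e.symm) (s.image (rename e)) fun r hr => by
    obtain ⟨r, hr', rfl⟩ := Finset.mem_image.1 hr
    rw [ev_rename, Function.comp_assoc, e.symm_comp_self, Function.comp_id]
    exact hs r hr'
  refine ⟨C, inferInstance, hC, g, hg, w ∘ e, fun i => by simpa using hw (e i), fun r hr' => ?_⟩
  rw [← ev_rename]
  exact hr _ (Finset.mem_image_of_mem _ hr')

theorem IndRegLocal.isDomain {L : Type u} [CommRing L] [IsLocalRing L] (h : IndRegLocal L) : IsDomain L := by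
  haveI : NoZeroDivisors L := ⟨fun {a b} hab => by
    obtain ⟨C, _, hC, g, _, w, hw, hr⟩ := h 2 ![a, b] {X 0 * X 1} fun r hr => by
      rw [Finset.mem_singleton] at hr
      subst hr
      simpa using hab
    haveI := CommAlgDim.isDomain_of_isRegularLocalRing C
    have h0 := hr _ (Finset.mem_singleton_self _)
    rw [map_mul, ev_X, ev_X, mul_eq_zero] at h0
    rcases h0 with h0 | h0
    · left; simpa [h0] using (hw 0).symm
    · right; simpa [h0] using (hw 1).symm⟩
  exact NoZeroDivisors.to_isDomain L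

theorem IndRegLocal.quotient {L : Type u} [CommRing L] [IsLocalRing L] (h : IndRegLocal L) (x : L)
    (hx : x ∈ maximalIdeal L) (hx2 : x ∉ maximalIdeal L ^ 2) [IsLocalRing (L ⧸ Ideal.span {x})] :
    IndRegLocal (L ⧸ Ideal.span {x}) := by
  classical
  intro n v s hs
  choose l hl using fun i => Ideal.Quotient.mk_surjective (I := Ideal.span {x}) (v i)
  have hm : ∀ r : s, ∃ z, x * z = ev l (r : MvPolynomial (Fin n) ℤ) := fun r => by
    have h1 : Ideal.Quotient.mk (Ideal.span {x}) (ev l (r : MvPolynomial (Fin n) ℤ)) = 0 := by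
      rw [← hs r r.2, ← funext hl, map_ev]
      rfl
    obtain ⟨z, hz⟩ := Ideal.mem_span_singleton'.1 (Ideal.Quotient.eq_zero_iff_mem.1 h1)
    exact ⟨z, by rw [mul_comm]; exact hz⟩
  choose m hm using hm
  let e := s.equivFin
  let σ := Fin n ⊕ Unit ⊕ Fin s.card
  let val : σ → L := Sum.elim l (Sum.elim (fun _ => x) fun j => m (e.symm j))
  let rel : s → MvPolynomial σ ℤ := fun r =>
    rename Sum.inl (r : MvPolynomial (Fin n) ℤ) - X (Sum.inr (Sum.inl ())) * X (Sum.inr (Sum.inr (e r)))
  obtain ⟨C, _, hC, g, hg, w, hw, hr⟩ := h.exists_factor val (Finset.univ.image rel) fun r hr => by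
    obtain ⟨r, -, rfl⟩ := Finset.mem_image.1 hr
    simp only [rel, map_sub, map_mul, ev_X, ev_rename, sub_eq_zero]
    show ev l _ = x * m (e.symm (e r))
    rw [e.symm_apply_apply, hm]
  let y := w (Sum.inr (Sum.inl ()))
  have hy : g y = x := hw _
  have hym : y ∈ maximalIdeal C := fun hu => hx (hy ▸ hu.map g)
  have hy2 : y ∉ maximalIdeal C ^ 2 := fun h2 => hx2 (by
    have h3 := Ideal.mem_map_of_mem g h2
    rw [Ideal.map_pow, hy] at h3
    exact Ideal.pow_right_mono ((local_hom_TFAE g).out 0 2 |>.1 hg) 2 h3)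
  let fy : Unit → maximalIdeal C := fun _ => ⟨y, hym⟩
  have hli : LinearIndependent (ResidueField C) fun i => (maximalIdeal C).toCotangent (fy i) := by
    refine linearIndependent_unique_iff.2 ?_
    rw [Ne, Ideal.toCotangent_eq_zero]
    exact hy2
  have hrange : (Set.range fun i => (fy i : C)) = {y} := Set.range_const
  haveI hreg := FixLocusLib.isRegularLocalRing_quotient_of_li fy hli
  rw [hrange] at hreg
  let g' : C ⧸ Ideal.span {y} →+* L ⧸ Ideal.span {x} := Ideal.quotientMap _ g (by
    rw [← Ideal.map_le_iff_le_comap, Ideal.map_span, Set.image_singleton, hy])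
  haveI : IsLocalHom g' := ⟨fun z hz => by
    obtain ⟨z, rfl⟩ := Ideal.Quotient.mk_surjective z
    rw [Ideal.quotientMap_mk] at hz
    haveI := IsLocalHom.of_surjective (Ideal.Quotient.mk (Ideal.span {x})) Ideal.Quotient.mk_surjective
    exact ((isUnit_map_iff g z).1 ((isUnit_map_iff _ _).1 hz)).map _⟩
  refine ⟨C ⧸ Ideal.span {y}, inferInstance, hreg, g', inferInstance,
    fun i => Ideal.Quotient.mk _ (w (Sum.inl i)), fun i => ?_, fun r hr' => ?_⟩
  · rw [Ideal.quotientMap_mk, hw]
    exact hl i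
  · have h1 := hr _ (Finset.mem_image_of_mem rel (Finset.mem_univ ⟨r, hr'⟩))
    simp only [rel, map_sub, map_mul, ev_X, ev_rename, sub_eq_zero] at h1
    show ev (Ideal.Quotient.mk (Ideal.span {y}) ∘ (w ∘ Sum.inl)) r = 0
    rw [← map_ev, h1]
    exact Ideal.Quotient.eq_zero_iff_mem.2 (Ideal.mul_mem_right _ _ (Ideal.mem_span_singleton_self y))

theorem isRegularLocalRing_aux : ∀ (n : ℕ) (L : Type u) [CommRing L] [IsLocalRing L] [IsNoetherianRing L],
    IndRegLocal L → (maximalIdeal L).spanFinrank ≤ n → IsRegularLocalRing L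
  | 0, L, _, _, _, _, hn => by
    refine IsRegularLocalRing.of_spanFinrank_maximalIdeal_le _ ?_
    rw [Nat.le_zero.1 hn]
    exact ringKrullDim_nonneg_of_nontrivial
  | n + 1, L, _, _, _, h, hn => by
    classical
    by_cases h0 : (maximalIdeal L).spanFinrank ≤ n
    · exact isRegularLocalRing_aux n L h h0
    haveI := h.isDomain
    obtain ⟨t, ht, htm⟩ := Submodule.FG.exists_span_finset_card_eq_spanFinrank
      (IsNoetherian.noetherian (maximalIdeal L))
    rw [Ideal.submodule_span_eq] at htm
    obtain ⟨x, hxt, hx2⟩ : ∃ x ∈ t, x ∉ maximalIdeal L ^ 2 := by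
      by_contra hall
      push Not at hall
      have hle : maximalIdeal L ≤ maximalIdeal L * maximalIdeal L := by
        rw [← sq]
        conv_lhs => rw [← htm]
        exact Ideal.span_le.2 fun z hz => hall z hz
      have hbot := Submodule.eq_bot_of_le_smul_of_le_jacobson_bot (maximalIdeal L) (maximalIdeal L)
        (IsNoetherian.noetherian _) hle (jacobson_eq_maximalIdeal ⊥ bot_ne_top).ge
      rw [hbot] at h0
      exact h0 (by simp)
    have hxm : x ∈ maximalIdeal L := htm ▸ Ideal.subset_span hxt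
    let p : Ideal L := Ideal.span {x}
    have hpm : p ≤ maximalIdeal L := (Ideal.span_singleton_le_iff_mem _).2 hxm
    haveI : Nontrivial (L ⧸ p) :=
      Ideal.Quotient.nontrivial_iff.2 (ne_top_of_le_ne_top (maximalIdeal.isMaximal L).ne_top hpm)
    haveI : IsLocalRing (L ⧸ p) := IsLocalRing.of_surjective' (Ideal.Quotient.mk p) Ideal.Quotient.mk_surjective
    have hrank : (maximalIdeal (L ⧸ p)).spanFinrank ≤ n := by
      rw [← map_maximalIdeal_of_surjective (Ideal.Quotient.mk p) Ideal.Quotient.mk_surjective, ← htm,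
        Ideal.map_span]
      have h1 : Ideal.span (Ideal.Quotient.mk p '' (t : Set L)) =
          Ideal.span (((t.erase x).image (Ideal.Quotient.mk p) : Finset (L ⧸ p)) : Set (L ⧸ p)) := by
        refine le_antisymm (Ideal.span_le.2 ?_) (Ideal.span_mono ?_)
        · rintro _ ⟨z, hz, rfl⟩
          by_cases hzx : z = x
          · rw [hzx, SetLike.mem_coe,
              Ideal.Quotient.eq_zero_iff_mem.2 (Ideal.mem_span_singleton_self x : x ∈ p)]
            exact zero_mem _
          · exact Ideal.subset_span (Finset.mem_image_of_mem _ (Finset.mem_erase.2 ⟨hzx, hz⟩))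
        · rw [Finset.coe_image]
          exact Set.image_mono (Finset.coe_subset.2 (Finset.erase_subset _ _))
      rw [h1]
      refine (Submodule.spanFinrank_span_le_ncard_of_finite (Finset.finite_toSet _)).trans ?_
      rw [Set.ncard_coe_finset]
      refine Finset.card_image_le.trans ?_
      rw [Finset.card_erase_of_mem hxt]
      omega
    haveI := isRegularLocalRing_aux n (L ⧸ p) (h.quotient x hxm hx2) hrank
    haveI := CommAlgDim.isDomain_of_isRegularLocalRing (L ⧸ p)
    haveI hp : p.IsPrime := (Ideal.Quotient.isDomain_iff_prime p).1 inferInstance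
    refine J2Lib.isRegularLocalRing_of_quotient_height p ?_
    have h1 : p.spanFinrank ≤ 1 :=
      (Submodule.spanFinrank_span_le_ncard_of_finite (Set.finite_singleton x)).trans_eq (Set.ncard_singleton x)
    refine le_trans (by exact_mod_cast h1) (Order.one_le_iff_pos.2 (pos_iff_ne_zero.2 fun hh => ?_))
    rw [Ideal.height_eq_zero_iff, minimalPrimes_eq_minimals] at hh
    have hx0 : x ≠ 0 := fun e => hx2 (e ▸ Ideal.zero_mem _)
    have hb : (⊥ : Ideal L) = p := le_antisymm bot_le (hh.2 (Ideal.bot_prime : (⊥ : Ideal L).IsPrime) bot_le)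
    exact hx0 ((Submodule.eq_bot_iff p).1 hb.symm x (Ideal.mem_span_singleton_self x))

/-- A Noetherian local ring which is ind-regular is regular. -/
theorem isRegularLocalRing {L : Type u} [CommRing L] [IsLocalRing L] [IsNoetherianRing L] (h : IndRegLocal L) :
    IsRegularLocalRing L :=
  isRegularLocalRing_aux _ L h le_rfl

theorem IndRegRing.localization {D : Type u} [CommRing D] (h : IndRegRing D) (P : Ideal D) [P.IsPrime] :
    IndRegLocal (Localization.AtPrime P) := by
  classical
  intro n v s hs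
  choose a t ht using fun i => IsLocalization.exists_mk'_eq P.primeCompl (v i)
  let A₀ := MvPolynomial (Fin n ⊕ Fin n) ℤ
  let π : A₀ := ∏ i, X (Sum.inr i)
  let Au := Localization.Away π
  have hX : ∀ i : Fin n, IsUnit (algebraMap A₀ Au (X (Sum.inr i))) := fun i =>
    isUnit_of_dvd_unit (map_dvd (algebraMap A₀ Au) (Finset.dvd_prod_of_mem (fun i => X (Sum.inr i)) (Finset.mem_univ i)))
      (IsLocalization.Away.algebraMap_isUnit (S := Au) π)
  let w₀ : Fin n → Au := fun i => algebraMap A₀ Au (X (Sum.inl i)) * ↑(hX i).unit⁻¹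
  have key : ∀ (r : MvPolynomial (Fin n) ℤ), ∃ (k : ℕ) (c : A₀), ∀ (E : Type u) [CommRing E]
      (z : Fin n ⊕ Fin n → E) (wE : Fin n → E), (∀ i, IsUnit (z (Sum.inr i))) →
      (∀ i, wE i * z (Sum.inr i) = z (Sum.inl i)) →
      ev wE r * (∏ i, z (Sum.inr i)) ^ k = ev z c := by
    intro r
    obtain ⟨k, c, hc⟩ := IsLocalization.Away.surj π (ev w₀ r)
    refine ⟨k, c, fun E _ z wE hu hz => ?_⟩
    have hπ : IsUnit ((ev z) π) := by
      show IsUnit (ev z (∏ i, X (Sum.inr i)))
      rw [map_prod]
      exact IsUnit.prod_univ_iff.2 fun i => by rw [ev_X]; exact hu i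
    let φ : Au →+* E := IsLocalization.Away.lift π hπ
    have hφ : ∀ q, φ (algebraMap A₀ Au q) = ev z q := fun q => IsLocalization.Away.lift_eq π hπ q
    have hw : ∀ i, φ (w₀ i) = wE i := fun i => by
      refine (hu i).mul_left_injective ?_
      show φ (w₀ i) * z (Sum.inr i) = wE i * z (Sum.inr i)
      rw [hz, ← ev_X z (Sum.inr i), ← hφ, ← map_mul, mul_assoc, IsUnit.val_inv_mul, mul_one, hφ,
        ev_X]
    have h1 : φ (ev w₀ r) = ev wE r := by
      rw [map_ev, ← funext hw]
      rfl
    have h2 := congrArg φ hc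
    rw [map_mul, h1, map_pow, hφ, hφ, map_prod] at h2
    simpa using h2
  choose k c hkc using key
  let val : Fin n ⊕ Fin n → D := Sum.elim a fun i => (t i : D)
  have hcv : ∀ r : s, ∃ u : P.primeCompl, (u : D) * ev val (c r) = 0 := fun r => by
    refine (IsLocalization.map_eq_zero_iff P.primeCompl (Localization.AtPrime P) _).1 ?_
    rw [map_ev]
    rw [← hkc r (Localization.AtPrime P) _ v (fun i => IsLocalization.map_units _ (t i))
      (fun i => by show v i * algebraMap D _ (t i : D) = algebraMap D _ (a i); rw [← ht, IsLocalization.mk'_spec]),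
      hs r r.2, zero_mul]
  choose u hu using hcv
  let e := s.equivFin
  let τ := (Fin n ⊕ Fin n) ⊕ Fin s.card
  let ν := Fintype.equivFin τ
  let rel : s → MvPolynomial τ ℤ := fun r => X (Sum.inr (e r)) * rename Sum.inl (c r)
  let valτ : τ → D := Sum.elim val fun j => (u (e.symm j) : D)
  obtain ⟨C, _, hC, g, wf, hwf, hr⟩ := h _ (valτ ∘ ν.symm) (Finset.univ.image fun r => rename ν (rel r)) fun q hq => by
    obtain ⟨r, -, rfl⟩ := Finset.mem_image.1 hq
    rw [ev_rename, Function.comp_assoc, ν.symm_comp_self, Function.comp_id]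
    simp only [rel, map_mul, ev_X, ev_rename]
    show (u (e.symm (e r)) : D) * ev val (c r) = 0
    rw [e.symm_apply_apply, hu]
  let w : τ → C := wf ∘ ν
  have hw : ∀ i, g (w i) = valτ i := fun i => by
    show g (wf (ν i)) = valτ i
    simpa using hwf (ν i)
  let PC := P.comap g
  haveI : PC.IsPrime := Ideal.IsPrime.comap g
  let LC := Localization.AtPrime PC
  let gL : LC →+* Localization.AtPrime P := Localization.localRingHom PC P g rfl
  have hmem : ∀ i, w (Sum.inl (Sum.inr i)) ∈ PC.primeCompl := fun i hi => (t i).2 (by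
    have h1 : g (w (Sum.inl (Sum.inr i))) ∈ P := hi
    rwa [hw] at h1)
  let wL : Fin n → LC := fun i => IsLocalization.mk' LC (w (Sum.inl (Sum.inl i))) (⟨_, hmem i⟩ : PC.primeCompl)
  refine ⟨LC, inferInstance, inferInstance, gL, inferInstance, wL, fun i => ?_, fun r hr' => ?_⟩
  · rw [Localization.localRingHom_mk', ← ht]
    refine IsLocalization.mk'_eq_of_eq ?_
    simp only [hw]
    rfl
  · have h1 := hr _ (Finset.mem_image_of_mem _ (Finset.mem_univ (⟨r, hr'⟩ : s)))
    rw [ev_rename] at h1
    simp only [rel, map_mul, ev_X, ev_rename] at h1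
    have h2 := congrArg (algebraMap C LC) h1
    rw [map_mul, map_zero] at h2
    have hu' : IsUnit (algebraMap C LC (w (Sum.inr (e ⟨r, hr'⟩)))) :=
      IsLocalization.map_units LC (⟨_, fun hi => (u (e.symm (e ⟨r, hr'⟩))).2 (by
        have h3 : g (w (Sum.inr (e ⟨r, hr'⟩))) ∈ P := hi
        rwa [hw] at h3)⟩ : PC.primeCompl)
    have h3 := hu'.mul_right_eq_zero.1 h2
    rw [map_ev,
      ← hkc r LC _ wL (fun i => IsLocalization.map_units LC (⟨_, hmem i⟩ : PC.primeCompl))
        (fun i => IsLocalization.mk'_spec _ _ _)] at h3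
    exact ((IsUnit.prod_univ_iff.2 fun i => IsLocalization.map_units LC (⟨_, hmem i⟩ : PC.primeCompl)).pow (k r)).mul_left_eq_zero.1 h3

/-- A Noetherian ring which is ind-regular is regular. -/
theorem isRegularRing {D : Type u} [CommRing D] [IsNoetherianRing D] (h : IndRegRing D) : IsRegularRing D := by
  rw [isRegularRing_iff]
  intro P _
  exact isRegularLocalRing (h.localization P)

/-- A directed family of regular rings exhausting `D` makes `D` ind-regular. -/
theorem indRegRing_of_system {D : Type u} [CommRing D] {ι : Type u} [Preorder ι] [IsDirectedOrder ι] [Nonempty ι]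
    (C : ι → Type u) [∀ i, CommRing (C i)] [∀ i, IsRegularRing (C i)] (g : ∀ i, C i →+* D)
    (f : ∀ i j, i ≤ j → (C i →+* C j)) (hgf : ∀ i j h x, g j (f i j h x) = g i x)
    (hsurj : ∀ d, ∃ i x, g i x = d) (hker : ∀ i x, g i x = 0 → ∃ j h, f i j h x = 0) : IndRegRing D := by
  classical
  intro n v s hs
  choose i x hx using fun k => hsurj (v k)
  obtain ⟨j₀, hj₀⟩ := Finset.exists_le (Finset.univ.image i)
  have hle : ∀ k, i k ≤ j₀ := fun k => hj₀ _ (Finset.mem_image_of_mem _ (Finset.mem_univ k))
  let w₀ : Fin n → C j₀ := fun k => f _ _ (hle k) (x k)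
  have hw₀ : ∀ k, g j₀ (w₀ k) = v k := fun k => by rw [hgf, hx]
  have main : ∀ s' : Finset (MvPolynomial (Fin n) ℤ), (∀ r ∈ s', ev v r = 0) →
      ∃ (j : ι) (w : Fin n → C j), (∀ k, g j (w k) = v k) ∧ ∀ r ∈ s', ev w r = 0 := by
    intro s'
    induction s' using Finset.induction_on with
    | empty => exact fun _ => ⟨j₀, w₀, hw₀, by simp⟩
    | insert r s'' _ ih =>
      intro hs'
      obtain ⟨j, w, hw, hws⟩ := ih fun q hq => hs' q (Finset.mem_insert_of_mem hq)
      have h0 : g j (ev w r) = 0 := by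
        rw [map_ev, show g j ∘ w = v from funext hw]
        exact hs' r (Finset.mem_insert_self _ _)
      obtain ⟨j', h', hj'⟩ := hker j _ h0
      refine ⟨j', fun k => f j j' h' (w k), fun k => by rw [hgf, hw], fun q hq => ?_⟩
      rw [show (fun k => f j j' h' (w k)) = f j j' h' ∘ w from rfl, ← map_ev]
      rcases Finset.mem_insert.1 hq with rfl | hq
      · exact hj'
      · rw [hws q hq, map_zero]
  obtain ⟨j, w, hw, hws⟩ := main s hs
  exact ⟨C j, inferInstance, inferInstance, g j, w, hw, hws⟩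

end IndRegLib
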