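import Groth.Agent.IndRegLib.Basic
import Groth.Agent.CohenLib.RegularField
import Mathlib

/-!
# Base changes of filtered colimits of smooth algebras to fields
-/

set_option autoImplicit false

universe u

open TensorProduct

namespace IndRegLib

variable {R : Type u} [CommRing R] {ι : Type u} [Preorder ι] [IsDirectedOrder ι] [Nonempty ι] {G : ι → Type u}
  [∀ i, CommRing (G i)] [∀ i, Algebra R (G i)] {f : ∀ i j : ι, i ≤ j → (G i →ₐ[R] G j)}
  [DirectedSystem G (fun i j h => f i j h)]

theorem tensor_of_directLimit (M : Type u) [AddCommGroup M] [Module R M] :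
    (∀ z : M ⊗[R] DirectLimit G f, ∃ i, ∃ x : M ⊗[R] G i,
      LinearMap.lTensor M (DirectLimit.Algebra.of G f i).toLinearMap x = z) ∧
    ∀ i (x : M ⊗[R] G i), LinearMap.lTensor M (DirectLimit.Algebra.of G f i).toLinearMap x = 0 →
      ∃ j, ∃ h : i ≤ j, LinearMap.lTensor M (f i j h).toLinearMap x = 0 := by
  classical
  let F : ∀ i j : ι, i ≤ j → (G i →ₗ[R] G j) := fun i j h => (f i j h).toLinearMap
  haveI : DirectedSystem G (fun i j h => F i j h) := ‹DirectedSystem G fun i j h => f i j h›
  let e : Module.DirectLimit G F ≃ₗ[R] DirectLimit G f := Module.DirectLimit.linearEquiv G F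
  let E : M ⊗[R] Module.DirectLimit G F ≃ₗ[R] M ⊗[R] DirectLimit G f := TensorProduct.congr (LinearEquiv.refl R M) e
  have key : ∀ i (x : M ⊗[R] G i), LinearMap.lTensor M (DirectLimit.Algebra.of G f i).toLinearMap x =
      E ((TensorProduct.directLimitRight F M).symm (Module.DirectLimit.of R ι _ _ i x)) := by
    intro i x
    induction x using TensorProduct.induction_on with
    | zero => simp
    | add a b ha hb => simp only [map_add, ha, hb]
    | tmul m g =>
      rw [TensorProduct.directLimitRight_symm_of_tmul, LinearMap.lTensor_tmul]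
      show _ = TensorProduct.congr (LinearEquiv.refl R M) e (m ⊗ₜ[R] Module.DirectLimit.of R ι G F i g)
      rw [TensorProduct.congr_tmul, LinearEquiv.refl_apply]
      exact congrArg _ (Module.DirectLimit.linearEquiv_of (G := G) (f := F) (i := i) (g := g)).symm
  refine ⟨fun z => ?_, fun i x hx => ?_⟩
  · obtain ⟨i, x, hx⟩ := Module.DirectLimit.exists_of (TensorProduct.directLimitRight F M (E.symm z))
    exact ⟨i, x, by rw [key, hx, LinearEquiv.symm_apply_apply, LinearEquiv.apply_symm_apply]⟩
  · rw [key, map_eq_zero_iff E E.injective, map_eq_zero_iff _ (LinearEquiv.injective _)] at hx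
    obtain ⟨j, h, hj⟩ := Module.DirectLimit.of.zero_exact hx
    exact ⟨j, h, hj⟩

theorem indRegRing_baseChange (hs : ∀ i, Algebra.Smooth R (G i)) (K : Type u) [Field K] [Algebra R K] :
    IndRegRing (K ⊗[R] DirectLimit G f) := by
  haveI : ∀ i, IsNoetherianRing (K ⊗[R] G i) := fun i =>
    haveI := hs i
    Algebra.FiniteType.isNoetherianRing K (K ⊗[R] G i)
  haveI : ∀ i, IsRegularRing (K ⊗[R] G i) := fun i =>
    haveI := hs i
    CohenLib.isRegularRing_of_formallySmooth (k := K)
  obtain ⟨hsurj, hker⟩ := tensor_of_directLimit (f := f) K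
  refine indRegRing_of_system (fun i => K ⊗[R] G i)
    (fun i => (Algebra.TensorProduct.map (AlgHom.id R K) (DirectLimit.Algebra.of G f i)).toRingHom)
    (fun i j h => (Algebra.TensorProduct.map (AlgHom.id R K) (f i j h)).toRingHom) (fun i j h x => ?_)
    hsurj hker
  induction x using TensorProduct.induction_on with
  | zero => simp
  | add a b ha hb => simp only [map_add, ha, hb]
  | tmul m g =>
    show m ⊗ₜ[R] DirectLimit.Algebra.of G f j (f i j h g) = m ⊗ₜ[R] DirectLimit.Algebra.of G f i g
    exact congrArg _ (DirectLimit.mk_apply i j g h)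

theorem flat_directLimit (hflat : ∀ i, Module.Flat R (G i)) : Module.Flat R (DirectLimit G f) := by
  classical
  rw [Module.Flat.iff_rTensor_preserves_injective_linearMap]
  intro N P _ _ _ _ φ hφ
  refine (injective_iff_map_eq_zero _).2 fun z hz => ?_
  obtain ⟨hs₁, hk₁⟩ := tensor_of_directLimit (f := f) N
  obtain ⟨hs₂, hk₂⟩ := tensor_of_directLimit (f := f) P
  obtain ⟨i, x, rfl⟩ := hs₁ z
  rw [← LinearMap.comp_apply, LinearMap.rTensor_comp_lTensor, ← LinearMap.lTensor_comp_rTensor,
    LinearMap.comp_apply] at hz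
  obtain ⟨j, h, hj⟩ := hk₂ i _ hz
  rw [← LinearMap.comp_apply, LinearMap.lTensor_comp_rTensor, ← LinearMap.rTensor_comp_lTensor,
    LinearMap.comp_apply] at hj
  haveI := hflat j
  have h0 := (injective_iff_map_eq_zero _).1
    (Module.Flat.rTensor_preserves_injective_linearMap φ hφ (M := G j)) _ hj
  have h1 := congrArg (LinearMap.lTensor N (DirectLimit.Algebra.of G f j).toLinearMap) h0
  rw [map_zero, ← LinearMap.comp_apply, ← LinearMap.lTensor_comp] at h1
  refine Eq.trans ?_ h1
  refine congrArg (fun l => LinearMap.lTensor N l x) (LinearMap.ext fun g => ?_)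
  exact (DirectLimit.mk_apply (f := f) i j g h).symm

end IndRegLib
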